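import Cfsg.Agent.H443.XC.Defs
import Cfsg.Agent.H967.XZ.FBeta
import Cfsg.Agent.H116.RatB0.StAut
import Cfsg.Agent.H319.PQ.Cosets
import Cfsg.Agent.H211.Dl.Perm
import Cfsg.Agent.H705.Dl.PsRgd
import Cfsg.Agent.H601.OddDeg.Perm

/-!
# S4791 + S4927, G1: constituents of `1_B^S` are invariant under the automorphisms of trivial type (helper307)

* `delta_eq` : a map between the chambers of a building which preserves the `i`-adjacency for all `i` preserves the
  distance;
* `fix_dc` : `x ↦ g⁻¹ α(x) g` (`g` the element of `α`) preserves all `B`-double cosets if the type of `α` is trivial;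
* `inv_of_perm` : the constituents of `1_B^S` are invariant under the automorphisms of trivial type;
* `inv_of_typ` : the same for the constituents of the rank-selected characters (`betaPJ`) and of the `QPJ`.
-/

set_option autoImplicit false
set_option linter.unusedSectionVars false

open Cfsg Subgroup
open Cfsg.Agent.H674.XZ Cfsg.Agent.H667.BR
open CoxeterSystem Cfsg.Agent.ChevalleyStructure.CoxeterGeom Cfsg.Agent.Tits.Roots Cfsg.Agent.Tits.Core
  Cfsg.Agent.Tits.Exchange Cfsg.Agent.Nodes.Reps Cfsg.Agent.Nodes.BNOf Cfsg.Agent.Nodes.StabComb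
  Cfsg.Agent.Nodes.Bruhat Cfsg.Agent.Nodes.OppDec Cfsg.Agent.Nodes.LeviDec Cfsg.Agent.Characters.Core
  Cfsg.Agent.H796.BR Cfsg.Agent.H116.StAut Cfsg.Agent.H967.XZ Cfsg.Agent.H145.BR

namespace Cfsg.Agent.H307.XC

/-- a map preserving the adjacencies preserves the distance -/
theorem delta_eq {I W C C' : Type*} [Group W] {M : CoxeterMatrix I} {cs : CoxeterSystem M W} (Δ : Bldg cs C)
    (Δ' : Bldg cs C') (f : C → C') (hf : ∀ x y i, Δ.δ x y = cs.simple i → Δ'.δ (f x) (f y) = cs.simple i) (x y : C) :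
    Δ'.δ (f x) (f y) = Δ.δ x y := by
  have key : ∀ (k : ℕ) (x y : C), cs.length (Δ.δ x y) = k → Δ'.δ (f x) (f y) = Δ.δ x y := by
    intro k
    induction k with
    | zero =>
      intro x y h
      have h1 : Δ.δ x y = 1 := cs.length_eq_zero_iff.1 h
      have h2 := (Δ.eq_one x y).1 h1
      rw [h1, h2]
      exact (Δ'.eq_one _ _).2 rfl
    | succ k ih =>
      intro x y h
      have hne : Δ.δ x y ≠ 1 := by
        intro h1
        rw [h1, cs.length_one] at h
        omega
      obtain ⟨i, hi⟩ := cs.exists_rightDescent_of_ne_one hne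
      obtain ⟨z, hz1, hz2⟩ := Δ.exists_step x y i
      have h3 : cs.length (Δ.δ x z) = k := by
        rw [hz2]
        have := (cs.isRightDescent_iff).1 hi
        omega
      have h4 := ih x z h3
      have h5 : Δ.δ z y = cs.simple i := by rw [Δ.symm y z, hz1, cs.inv_simple]
      have h6 := hf z y i h5
      have h7 : Δ.δ x y = Δ.δ x z * cs.simple i := by
        rw [hz2, mul_assoc, cs.simple_mul_simple_self, mul_one]
      rw [h7, ← h4]
      apply Δ'.step_lt _ _ _ i h6
      rw [h4, ← h7, h3, h]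
      omega
  exact key _ x y rfl

section Rgd

variable {I W S : Type*} [Fintype I] [DecidableEq I] [Group W] [Finite W] [Group S] [Finite S] {Mx : CoxeterMatrix I}
  {cs : CoxeterSystem Mx W} {A : I → I → ℤ} {h : IsCartan Mx A} {r : ℕ} [Fact r.Prime] {T : Subgroup S} {n : I → S}
  {X : (I → ℤ) → Subgroup S} (R : RGD cs h r T n X)

/-- the automorphism `x ↦ g⁻¹ α(x) g` preserves the double cosets of `B` -/
theorem fix_dc (hG : GG cs h T X = ⊤) (α : MulAut S) (hα : typHom R hG α = 1) (x : S) :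
    ∃ b ∈ RGD.B cs h T X, ∃ b' ∈ RGD.B cs h T X, (gel R hG α)⁻¹ * α x * gel R hG α = b * x * b' := by
  obtain ⟨Δ, hiso, htr, hδ⟩ := H167.SteinbergRGD.exists_bldg R (H116.RatB0.hgen_of_GG R hG)
  have hadj : ∀ (y z : S ⧸ RGD.B cs h T X) (i : I), Δ.δ y z = cs.simple i →
      Δ.δ (act R hG α y) (act R hG α z) = cs.simple i := by
    intro y z i hyz
    have h1 := rel_iff R hG Δ hδ α ({i} : Finset I) y z
    have h2 := rel_iff R hG Δ hδ α (∅ : Finset I) y z
    rw [hα] at h1 h2
    have e1 : (({i} : Finset I).map (1 : Equiv.Perm I).toEmbedding) = {i} := by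
      rw [Finset.map_singleton]; rfl
    rw [e1, Finset.coe_singleton] at h1
    rw [Finset.map_empty, Finset.coe_empty] at h2
    have h3 : Δ.δ (act R hG α y) (act R hG α z) ∈ WJ cs ({i} : Set I) := by
      rw [← h1, hyz]
      exact Subgroup.subset_closure ⟨i, rfl, rfl⟩
    have h4 : Δ.δ (act R hG α y) (act R hG α z) ∉ WJ cs (∅ : Set I) := by
      rw [← h2, hyz]
      intro h5
      have h6 : cs.simple i = 1 := by
        have : WJ cs (∅ : Set I) = ⊥ := by
          unfold WJ
          rw [Set.image_empty, Subgroup.closure_empty]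
        rw [this] at h5
        exact h5
      have h7 := cs.length_simple i
      rw [h6, cs.length_one] at h7
      omega
    have h5 : WJ cs ({i} : Set I) = Subgroup.zpowers (cs.simple i) := by
      unfold WJ
      rw [Set.image_singleton, Subgroup.zpowers_eq_closure]
    have h6 : WJ cs (∅ : Set I) = ⊥ := by
      unfold WJ
      rw [Set.image_empty, Subgroup.closure_empty]
    rw [h5] at h3
    rw [h6] at h4
    obtain ⟨k, hk⟩ := Subgroup.mem_zpowers_iff.1 h3
    rcases Int.even_or_odd k with ⟨j, hj⟩ | ⟨j, hj⟩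
    · exfalso
      apply h4
      rw [Subgroup.mem_bot, ← hk, hj, ← two_mul, zpow_mul]
      have : cs.simple i ^ (2 : ℤ) = 1 := by
        rw [show (2 : ℤ) = 1 + 1 by norm_num, zpow_add, zpow_one, cs.simple_mul_simple_self]
      rw [this, one_zpow]
    · rw [← hk, hj, zpow_add, zpow_mul, zpow_one]
      have : cs.simple i ^ (2 : ℤ) = 1 := by
        rw [show (2 : ℤ) = 1 + 1 by norm_num, zpow_add, zpow_one, cs.simple_mul_simple_self]
      rw [this, one_zpow, one_mul]
  have h1 := delta_eq Δ Δ (act R hG α) hadj (QuotientGroup.mk 1) (QuotientGroup.mk x)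
  rw [act_mk, act_mk, map_one, one_mul] at h1
  obtain ⟨k, hk⟩ := exists_rp cs R.nsys (Δ.δ (QuotientGroup.mk (1 : S)) (QuotientGroup.mk x))
  obtain ⟨b₁, hb₁, b₂, hb₂, e⟩ := (hδ 1 x k _ hk).1 rfl
  obtain ⟨c₁, hc₁, c₂, hc₂, e'⟩ := (hδ (gel R hG α) (α x * gel R hG α) k _ hk).1 h1
  rw [inv_one, one_mul] at e
  refine ⟨c₁ * b₁⁻¹, mul_mem hc₁ (inv_mem hb₁), b₂⁻¹ * c₂, mul_mem (inv_mem hb₂) hc₂, ?_⟩
  rw [mul_assoc, e', e]
  group

include R in
/-- **Constituents of `1_B^S` are invariant under the automorphisms of trivial type.** -/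
theorem inv_of_perm (hG : GG cs h T X = ⊤) (θ : IrrCharacter S)
    (hθ : ip (permC S (S ⧸ RGD.B cs h T X)) (θ : S → ℂ) ≠ 0) (α : MulAut S) (hα : typHom R hG α = 1) (s : S) :
    (θ : S → ℂ) (α s) = (θ : S → ℂ) s := by
  classical
  have := Fintype.ofFinite S
  have h0 : H601.OddDeg.sB (RGD.B cs h T X) (θ : S → ℂ) 1 ≠ 0 := by
    have e : ip (permC S (S ⧸ RGD.B cs h T X)) (θ : S → ℂ) = H319.PQ.mu (RGD.B cs h T X) (θ : S → ℂ) := by
      rw [ip_eq]
      exact H319.PQ.classInner_cosets _ θ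
    rw [e] at hθ
    unfold H319.PQ.mu at hθ
    have h1 := right_ne_zero_of_mul hθ
    unfold H601.OddDeg.sB
    intro h2
    apply h1
    have : Fintype (RGD.B cs h T X) := Fintype.ofFinite _
    rw [finsum_eq_sum_of_fintype, ← h2, ← Finset.sum_filter]
    simp only [one_mul]
    exact (Finset.sum_subtype (Finset.univ.filter fun b => b ∈ RGD.B cs h T X) (by simp) (fun b => (θ : S → ℂ) b)).symm
  set g := gel R hG α with hg
  have h1 := H601.OddDeg.eq_of_fix (RGD.B cs h T X) θ.2 h0 ((α : S ≃* S).trans (MulAut.conj g⁻¹)) (by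
    intro x
    obtain ⟨b, hb, b', hb', e⟩ := fix_dc R hG α hα x
    refine ⟨b, hb, b', hb', ?_⟩
    rw [MulEquiv.trans_apply, MulAut.conj_apply, inv_inv]
    exact e) s
  rw [MulEquiv.trans_apply, MulAut.conj_apply, inv_inv] at h1
  rw [← h1]
  have h2 := isIrr_isClassFunction θ.2
  have h3 := h2 (α s) g⁻¹
  rw [inv_inv] at h3
  exact h3.symm

/-- a constituent of the permutation character on the cosets of a larger subgroup is one of `1_H^S` -/
theorem ip_mono {H K : Subgroup S} (hHK : H ≤ K) {χ : IrrCharacter S} (h1 : ip (permC S (S ⧸ K)) (χ : S → ℂ) ≠ 0) :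
    ip (permC S (S ⧸ H)) (χ : S → ℂ) ≠ 0 := by
  have := Fintype.ofFinite S
  have e : ∀ L : Subgroup S, ip (permC S (S ⧸ L)) (χ : S → ℂ) = H319.PQ.mu L (χ : S → ℂ) := by
    intro L
    rw [ip_eq]
    exact H319.PQ.classInner_cosets L χ
  rw [e] at h1 ⊢
  unfold H319.PQ.mu at h1 ⊢
  have h2 : (Nat.card H : ℂ) ≠ 0 := by exact_mod_cast Nat.card_pos.ne'
  exact mul_ne_zero (inv_ne_zero h2)
    (H211.Dl.sum_ne_zero_of_le (isIrr_isCharacter χ.2) hHK (right_ne_zero_of_mul h1))

include R in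
/-- the constituents of `1_(P_J)^S` are constituents of `1_B^S` -/
theorem perm_of_PJ (hG : GG cs h T X = ⊤) (J : Set I) {χ : IrrCharacter S}
    (h1 : ip (permC S (S ⧸ PJ cs h T X J)) (χ : S → ℂ) ≠ 0) :
    ip (permC S (S ⧸ RGD.B cs h T X)) (χ : S → ℂ) ≠ 0 := by
  have hle : RGD.B cs h T X ≤ PJ cs h T X J := by
    rw [← H705.Dl.PsRgd.PJ_empty (cs := cs) (h := h) (T := T) (X := X) R]
    exact PJ_mono' R hG (Set.empty_subset _)
  exact ip_mono hle h1

include R in
/-- the constituents of the rank-selected characters are constituents of `1_B^S` -/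
theorem perm_of_beta (hG : GG cs h T X = ⊤) {K : Finset I} {χ : IrrCharacter S}
    (h1 : ip (betaPJ cs h T X K) (χ : S → ℂ) ≠ 0) : ip (permC S (S ⧸ RGD.B cs h T X)) (χ : S → ℂ) ≠ 0 := by
  classical
  intro h0
  apply h1
  have := Fintype.ofFinite S
  rw [betaPJ_eq_comb, ip_eq, classInner_sum_left]
  refine Finset.sum_eq_zero fun L _ => ?_
  rw [← Int.cast_smul_eq_zsmul ℂ, classInner_smul_left, ← ip_eq]
  have key : ip (permC S (S ⧸ PJ cs h T X ((Kᶜ ∪ L : Finset I) : Set I))) (χ : S → ℂ) = 0 := by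
    by_contra hne
    exact perm_of_PJ R hG _ hne h0
  rw [key, mul_zero]

include R in
/-- the constituents of the alternating sums `QPJ` are constituents of `1_B^S` -/
theorem perm_of_QPJ (hG : GG cs h T X = ⊤) {J K : Finset I} {χ : IrrCharacter S}
    (h1 : ip (QPJ cs h T X J K) (χ : S → ℂ) ≠ 0) : ip (permC S (S ⧸ RGD.B cs h T X)) (χ : S → ℂ) ≠ 0 := by
  classical
  intro h0
  apply h1
  have := Fintype.ofFinite S
  have e : QPJ cs h T X J K = ∑ L ∈ K.powerset, (-1 : ℂ) ^ L.card •
      permC S (S ⧸ PJ cs h T X ((J ∪ L : Finset I) : Set I)) := by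
    funext g
    rw [Finset.sum_apply]
    unfold QPJ
    refine Finset.sum_congr rfl fun L _ => ?_
    rw [permC_quot, Pi.smul_apply, smul_eq_mul]
  rw [e, ip_eq, classInner_sum_left]
  refine Finset.sum_eq_zero fun L _ => ?_
  rw [classInner_smul_left, ← ip_eq]
  have key : ip (permC S (S ⧸ PJ cs h T X ((J ∪ L : Finset I) : Set I))) (χ : S → ℂ) = 0 := by
    by_contra hne
    exact perm_of_PJ R hG _ hne h0
  rw [key, mul_zero]

/-- **G1.** Constituents of the rank-selected characters are invariant under the automorphisms of trivial type. -/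
theorem inv_of_typ (hG : GG cs h T X = ⊤) (K : Finset I) (θ : IrrCharacter S)
    (hθ : ip (betaPJ cs h T X K) (θ : S → ℂ) ≠ 0) (α : MulAut S) (hα : typHom R hG α = 1) (s : S) :
    (θ : S → ℂ) (α s) = (θ : S → ℂ) s :=
  inv_of_perm R hG θ (perm_of_beta R hG hθ) α hα s

/-- G1 for the alternating sums `QPJ` -/
theorem inv_of_typ_QPJ (hG : GG cs h T X = ⊤) (J K : Finset I) (θ : IrrCharacter S)
    (hθ : ip (QPJ cs h T X J K) (θ : S → ℂ) ≠ 0) (α : MulAut S) (hα : typHom R hG α = 1) (s : S) :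
    (θ : S → ℂ) (α s) = (θ : S → ℂ) s :=
  inv_of_perm R hG θ (perm_of_QPJ R hG hθ) α hα s

end Rgd

end Cfsg.Agent.H307.XC
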